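import Mathlib
import Groth.Prelude.Def_DeltaF

open CategoryTheory CategoryTheory.Limits

namespace Groth.Agent.H20.DeltaFU

universe v u v' u'
variable {A : Type u} [Category.{v} A] [Abelian A] {B : Type u'} [Category.{v'} B] [Abelian B]

open DeltaF

/-- The short complex `X ⟶ Y ⟶ coker`. -/
noncomputable def cokerSeq {X Y : A} (w : X ⟶ Y) : ShortComplex A :=
  ShortComplex.mk w (cokernel.π w) (cokernel.condition w)

lemma cokerSeq_shortExact {X Y : A} (w : X ⟶ Y) [Mono w] : (cokerSeq w).ShortExact :=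
  ShortComplex.ShortExact.mk' (ShortComplex.exact_cokernel w) (show Mono w from inferInstance)
    (show Epi (cokernel.π w) from inferInstance)

/-- A morphism from a short exact sequence to a cokernel sequence. -/
noncomputable def toCokerSeq (S₁ : ShortComplex A) (hS₁ : S₁.ShortExact) {X' P : A} (w : X' ⟶ P)
    (a : S₁.X₁ ⟶ X') (b : S₁.X₂ ⟶ P) (comm : S₁.f ≫ b = a ≫ w) : S₁ ⟶ cokerSeq w :=
  haveI := hS₁.epi_g
  have h : S₁.f ≫ (b ≫ cokernel.π w) = 0 := by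
    rw [← Category.assoc, comm, Category.assoc, cokernel.condition, comp_zero]
  { τ₁ := a
    τ₂ := b
    τ₃ := (hS₁.exact.desc (b ≫ cokernel.π w) h : S₁.X₃ ⟶ cokernel w)
    comm₁₂ := comm.symm
    comm₂₃ := by
      show b ≫ cokernel.π w = S₁.g ≫ hS₁.exact.desc (b ≫ cokernel.π w) h
      rw [ShortComplex.Exact.g_desc] }

lemma epi_δ (T : CohDeltaFunctor A B ℕ) (S : ShortComplex A) (hS : S.ShortExact) (n : ℕ)
    (h0 : (T.F (n + 1)).map S.f = 0) : Epi (T.δ S hS n (n + 1) rfl) :=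
  (T.exact₁ S hS n (n + 1) rfl).epi_f h0

/-- The map induced on `T^{n+1}(S.X₁)` for an effacing short exact sequence. -/
noncomputable def lift (T T' : CohDeltaFunctor A B ℕ) {n : ℕ} (τ : T.F n ⟶ T'.F n)
    (S : ShortComplex A) (hS : S.ShortExact) (h0 : (T.F (n + 1)).map S.f = 0) :
    (T.F (n + 1)).obj S.X₁ ⟶ (T'.F (n + 1)).obj S.X₁ :=
  haveI : Epi (ShortComplex.mk _ _ (T.comp_δ S hS n (n + 1) rfl)).g := epi_δ T S hS n h0
  (T.exact₃ S hS n (n + 1) rfl).desc (τ.app S.X₃ ≫ T'.δ S hS n (n + 1) rfl) (by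
    show (T.F n).map S.g ≫ τ.app S.X₃ ≫ T'.δ S hS n (n + 1) rfl = 0
    rw [← Category.assoc, τ.naturality, Category.assoc, T'.comp_δ, comp_zero])

lemma lift_spec (T T' : CohDeltaFunctor A B ℕ) {n : ℕ} (τ : T.F n ⟶ T'.F n)
    (S : ShortComplex A) (hS : S.ShortExact) (h0 : (T.F (n + 1)).map S.f = 0) :
    T.δ S hS n (n + 1) rfl ≫ lift T T' τ S hS h0 = τ.app S.X₃ ≫ T'.δ S hS n (n + 1) rfl := by
  haveI : Epi (ShortComplex.mk _ _ (T.comp_δ S hS n (n + 1) rfl)).g := epi_δ T S hS n h0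
  exact ShortComplex.Exact.g_desc (T.exact₃ S hS n (n + 1) rfl) _ _

lemma G' (T T' : CohDeltaFunctor A B ℕ) {n : ℕ} (τ : T.F n ⟶ T'.F n)
    {S₁ S₂ : ShortComplex A} (hS₁ : S₁.ShortExact) (hS₂ : S₂.ShortExact) (φ : S₁ ⟶ S₂)
    (h₂ : (T.F (n + 1)).obj S₂.X₁ ⟶ (T'.F (n + 1)).obj S₂.X₁)
    (hh₂ : T.δ S₂ hS₂ n (n + 1) rfl ≫ h₂ = τ.app S₂.X₃ ≫ T'.δ S₂ hS₂ n (n + 1) rfl) :
    T.δ S₁ hS₁ n (n + 1) rfl ≫ (T.F (n + 1)).map φ.τ₁ ≫ h₂ =
      τ.app S₁.X₃ ≫ T'.δ S₁ hS₁ n (n + 1) rfl ≫ (T'.F (n + 1)).map φ.τ₁ := by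
  calc T.δ S₁ hS₁ n (n + 1) rfl ≫ (T.F (n + 1)).map φ.τ₁ ≫ h₂
      = ((T.F n).map φ.τ₃ ≫ T.δ S₂ hS₂ n (n + 1) rfl) ≫ h₂ := by
        rw [T.δ_natural hS₁ hS₂ φ n (n + 1) rfl, Category.assoc]
    _ = (T.F n).map φ.τ₃ ≫ τ.app S₂.X₃ ≫ T'.δ S₂ hS₂ n (n + 1) rfl := by
        rw [Category.assoc, hh₂]
    _ = τ.app S₁.X₃ ≫ (T'.F n).map φ.τ₃ ≫ T'.δ S₂ hS₂ n (n + 1) rfl := by
        rw [← Category.assoc, τ.naturality, Category.assoc]
    _ = _ := by rw [T'.δ_natural hS₁ hS₂ φ n (n + 1) rfl]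

lemma G (T T' : CohDeltaFunctor A B ℕ) {n : ℕ} (τ : T.F n ⟶ T'.F n)
    {S₁ S₂ : ShortComplex A} (hS₁ : S₁.ShortExact) (hS₂ : S₂.ShortExact) (φ : S₁ ⟶ S₂)
    (h0 : (T.F (n + 1)).map S₁.f = 0)
    (h₂ : (T.F (n + 1)).obj S₂.X₁ ⟶ (T'.F (n + 1)).obj S₂.X₁)
    (hh₂ : T.δ S₂ hS₂ n (n + 1) rfl ≫ h₂ = τ.app S₂.X₃ ≫ T'.δ S₂ hS₂ n (n + 1) rfl) :
    (T.F (n + 1)).map φ.τ₁ ≫ h₂ = lift T T' τ S₁ hS₁ h0 ≫ (T'.F (n + 1)).map φ.τ₁ := by
  haveI := epi_δ T S₁ hS₁ n h0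
  rw [← cancel_epi (T.δ S₁ hS₁ n (n + 1) rfl), G' T T' τ hS₁ hS₂ φ h₂ hh₂, ← Category.assoc,
    ← lift_spec T T' τ S₁ hS₁ h0, Category.assoc]

/-- An effacement of `X` in degree `n+1`. -/
structure Eff (T : CohDeltaFunctor A B ℕ) (n : ℕ) (X : A) where
  Y : A
  u : X ⟶ Y
  mono : Mono u
  zero : (T.F (n + 1)).map u = 0

attribute [instance] Eff.mono

noncomputable def eff {T : CohDeltaFunctor A B ℕ} (hT : T.IsEffaceable) (n : ℕ) (X : A) :
    Eff T n X :=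
  { Y := (hT n X).choose
    u := (hT n X).choose_spec.choose
    mono := (hT n X).choose_spec.choose_spec.1
    zero := (hT n X).choose_spec.choose_spec.2 }

noncomputable def liftE (T T' : CohDeltaFunctor A B ℕ) {n : ℕ} (τ : T.F n ⟶ T'.F n) {X : A}
    (e : Eff T n X) : (T.F (n + 1)).obj X ⟶ (T'.F (n + 1)).obj X :=
  lift T T' τ (cokerSeq e.u) (cokerSeq_shortExact e.u) e.zero

lemma liftE_natural (T T' : CohDeltaFunctor A B ℕ) {n : ℕ} (τ : T.F n ⟶ T'.F n) {X X' : A}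
    (e : Eff T n X) (e' : Eff T n X') (f : X ⟶ X') :
    (T.F (n + 1)).map f ≫ liftE T T' τ e' = liftE T T' τ e ≫ (T'.F (n + 1)).map f := by
  -- the pushout effacement of X'
  haveI : Mono (pushout.inr e.u (f ≫ e'.u)) := Abelian.mono_pushout_of_mono_f _ _
  have hv0 : (T.F (n + 1)).map (e'.u ≫ pushout.inr e.u (f ≫ e'.u)) = 0 := by
    rw [Functor.map_comp, e'.zero, zero_comp]
  let ev : Eff T n X' :=
    { Y := pushout e.u (f ≫ e'.u)
      u := e'.u ≫ pushout.inr e.u (f ≫ e'.u)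
      mono := mono_comp _ _
      zero := hv0 }
  let φ : cokerSeq e.u ⟶ cokerSeq ev.u :=
    toCokerSeq (cokerSeq e.u) (cokerSeq_shortExact e.u) ev.u f (pushout.inl e.u (f ≫ e'.u)) (by
      show e.u ≫ pushout.inl e.u (f ≫ e'.u) = f ≫ e'.u ≫ pushout.inr e.u (f ≫ e'.u)
      rw [pushout.condition, Category.assoc])
  let ψ : cokerSeq e'.u ⟶ cokerSeq ev.u :=
    toCokerSeq (cokerSeq e'.u) (cokerSeq_shortExact e'.u) ev.u (𝟙 X')
      (pushout.inr e.u (f ≫ e'.u)) (by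
      show e'.u ≫ pushout.inr e.u (f ≫ e'.u) = 𝟙 X' ≫ e'.u ≫ pushout.inr e.u (f ≫ e'.u)
      rw [Category.id_comp])
  have h1 : (T.F (n + 1)).map (𝟙 X') ≫ liftE T T' τ ev =
      liftE T T' τ e' ≫ (T'.F (n + 1)).map (𝟙 X') :=
    G T T' τ (cokerSeq_shortExact e'.u) (cokerSeq_shortExact ev.u) ψ e'.zero
      (liftE T T' τ ev) (lift_spec T T' τ _ _ _)
  have h2 : (T.F (n + 1)).map f ≫ liftE T T' τ ev =
      liftE T T' τ e ≫ (T'.F (n + 1)).map f :=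
    G T T' τ (cokerSeq_shortExact e.u) (cokerSeq_shortExact ev.u) φ e.zero
      (liftE T T' τ ev) (lift_spec T T' τ _ _ _)
  rw [CategoryTheory.Functor.map_id, CategoryTheory.Functor.map_id, Category.id_comp, Category.comp_id] at h1
  rw [← h1]
  exact h2

lemma liftE_compat (T T' : CohDeltaFunctor A B ℕ) {n : ℕ} (τ : T.F n ⟶ T'.F n)
    (S : ShortComplex A) (hS : S.ShortExact) (e : Eff T n S.X₁) :
    T.δ S hS n (n + 1) rfl ≫ liftE T T' τ e = τ.app S.X₃ ≫ T'.δ S hS n (n + 1) rfl := by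
  haveI := hS.mono_f
  haveI : Mono (pushout.inr S.f e.u) := Abelian.mono_pushout_of_mono_f _ _
  have hw0 : (T.F (n + 1)).map (e.u ≫ pushout.inr S.f e.u) = 0 := by
    rw [Functor.map_comp, e.zero, zero_comp]
  let ew : Eff T n S.X₁ :=
    { Y := pushout S.f e.u
      u := e.u ≫ pushout.inr S.f e.u
      mono := mono_comp _ _
      zero := hw0 }
  let α : S ⟶ cokerSeq ew.u :=
    toCokerSeq S hS ew.u (𝟙 S.X₁) (pushout.inl S.f e.u) (by
      show S.f ≫ pushout.inl S.f e.u = 𝟙 S.X₁ ≫ e.u ≫ pushout.inr S.f e.u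
      rw [Category.id_comp, pushout.condition])
  let β : cokerSeq e.u ⟶ cokerSeq ew.u :=
    toCokerSeq (cokerSeq e.u) (cokerSeq_shortExact e.u) ew.u (𝟙 S.X₁) (pushout.inr S.f e.u) (by
      show e.u ≫ pushout.inr S.f e.u = 𝟙 S.X₁ ≫ e.u ≫ pushout.inr S.f e.u
      rw [Category.id_comp])
  have h1 : (T.F (n + 1)).map (𝟙 S.X₁) ≫ liftE T T' τ ew =
      liftE T T' τ e ≫ (T'.F (n + 1)).map (𝟙 S.X₁) :=
    G T T' τ (cokerSeq_shortExact e.u) (cokerSeq_shortExact ew.u) β e.zero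
      (liftE T T' τ ew) (lift_spec T T' τ _ _ _)
  rw [CategoryTheory.Functor.map_id, CategoryTheory.Functor.map_id, Category.id_comp, Category.comp_id] at h1
  have h2 : T.δ S hS n (n + 1) rfl ≫ (T.F (n + 1)).map (𝟙 S.X₁) ≫ liftE T T' τ ew =
      τ.app S.X₃ ≫ T'.δ S hS n (n + 1) rfl ≫ (T'.F (n + 1)).map (𝟙 S.X₁) :=
    G' T T' τ hS (cokerSeq_shortExact ew.u) α (liftE T T' τ ew)
      (lift_spec T T' τ _ _ _)
  rw [CategoryTheory.Functor.map_id, CategoryTheory.Functor.map_id, Category.id_comp, Category.comp_id] at h2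
  rw [← h1]
  exact h2

/-- The inductive step. -/
noncomputable def step {T : CohDeltaFunctor A B ℕ} (hT : T.IsEffaceable)
    (T' : CohDeltaFunctor A B ℕ) (n : ℕ) (τ : T.F n ⟶ T'.F n) : T.F (n + 1) ⟶ T'.F (n + 1) where
  app X := liftE T T' τ (eff hT n X)
  naturality _ _ f := liftE_natural T T' τ _ _ f

noncomputable def fam {T : CohDeltaFunctor A B ℕ} (hT : T.IsEffaceable)
    (T' : CohDeltaFunctor A B ℕ) (t : T.F 0 ⟶ T'.F 0) : (n : ℕ) → (T.F n ⟶ T'.F n)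
  | 0 => t
  | n + 1 => step hT T' n (fam hT T' t n)

theorem isUniversal_of_isEffaceable (T : CohDeltaFunctor A B ℕ) (hT : T.IsEffaceable) :
    T.IsUniversal := by
  intro T' t
  refine ⟨CohDeltaFunctor.Hom.mk (fam hT T' t) ?_, rfl, ?_⟩
  · intro S hS n₀ n₁ h
    subst h
    show T.δ S hS n₀ (n₀ + 1) rfl ≫ (fam hT T' t (n₀ + 1)).app S.X₁ =
      (fam hT T' t n₀).app S.X₃ ≫ T'.δ S hS n₀ (n₀ + 1) rfl
    exact liftE_compat T T' (fam hT T' t n₀) S hS (eff hT n₀ S.X₁)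
  · intro σ hσ
    apply CohDeltaFunctor.hom_ext
    intro n
    induction n with
    | zero => exact hσ
    | succ n ih =>
      ext X
      haveI := epi_δ T (cokerSeq (eff hT n X).u) (cokerSeq_shortExact _) n (eff hT n X).zero
      have h1 := σ.comm (cokerSeq (eff hT n X).u) (cokerSeq_shortExact _) n (n + 1) rfl
      have h2 := lift_spec T T' (fam hT T' t n) (cokerSeq (eff hT n X).u)
        (cokerSeq_shortExact _) (eff hT n X).zero
      rw [ih] at h1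
      exact (cancel_epi
        (T.δ (cokerSeq (eff hT n X).u) (cokerSeq_shortExact _) n (n + 1) rfl)).mp
        (h1.trans h2.symm)

end Groth.Agent.H20.DeltaFU
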