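import Mathlib

/-! Toolkit for ideal sheaves (`Scheme.IdealSheafData`): affine description, local formula
for `comap`, `comap_mul`, `comap_pow`, and the dictionary on `Spec R`. -/

open CategoryTheory CategoryTheory.Limits AlgebraicGeometry AlgebraicGeometry.Scheme

namespace Groth.Agent.H20.IdealSh

universe u

section Affine

variable {X Y : Scheme.{u}}

lemma ofIdealTop_le_iff [IsAffine X] {I J : Ideal Γ(X, ⊤)} :
    IdealSheafData.ofIdealTop I ≤ IdealSheafData.ofIdealTop J ↔ I ≤ J := by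
  constructor
  · intro h
    have := h ⟨⊤, isAffineOpen_top X⟩
    simpa using this
  · intro h
    exact IdealSheafData.le_of_isAffine (by simpa using h)

lemma ofIdealTop_injective [IsAffine X] {I J : Ideal Γ(X, ⊤)}
    (h : IdealSheafData.ofIdealTop I = IdealSheafData.ofIdealTop J) : I = J :=
  le_antisymm (ofIdealTop_le_iff.mp h.le) (ofIdealTop_le_iff.mp h.ge)

lemma exists_ofIdealTop [IsAffine X] (I : X.IdealSheafData) :
    ∃ J, I = IdealSheafData.ofIdealTop J :=
  ⟨I.ideal ⟨⊤, isAffineOpen_top X⟩,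
    (IdealSheafData.ext_of_isAffine
      (I := IdealSheafData.ofIdealTop (I.ideal ⟨⊤, isAffineOpen_top X⟩)) (J := I) (by simp)).symm⟩

lemma map_ofIdealTop [IsAffine X] [IsAffine Y] (f : X ⟶ Y) (J : Ideal Γ(X, ⊤)) :
    (IdealSheafData.ofIdealTop J).map f = IdealSheafData.ofIdealTop (J.comap f.appTop.hom) := by
  apply IdealSheafData.ext_of_isAffine
  rw [IdealSheafData.ideal_map_of_isAffineHom]
  simp
  rfl

lemma comap_ofIdealTop [IsAffine X] [IsAffine Y] (f : X ⟶ Y) (𝔟 : Ideal Γ(Y, ⊤)) :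
    (IdealSheafData.ofIdealTop 𝔟).comap f = IdealSheafData.ofIdealTop (𝔟.map f.appTop.hom) := by
  apply eq_of_forall_ge_iff
  intro c
  obtain ⟨J, rfl⟩ := exists_ofIdealTop c
  rw [← IdealSheafData.le_map_iff_comap_le, map_ofIdealTop, ofIdealTop_le_iff, ofIdealTop_le_iff,
    Ideal.map_le_iff_le_comap]

end Affine

section Local

variable {X Y : Scheme.{u}}

/-- the affine open `U.ι ''ᵁ ⊤` (equal to `U` as an open set). -/
noncomputable def affTop (U : X.affineOpens) : X.affineOpens :=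
  ⟨U.1.ι ''ᵁ ⊤, by
    haveI : IsAffine U.1.toScheme := U.2
    exact (isAffineOpen_top _).image_of_isOpenImmersion U.1.ι⟩

lemma affTop_coe (U : X.affineOpens) : (affTop U).1 = U.1 := U.1.ι_image_top

lemma comap_ι (K : X.IdealSheafData) (U : X.affineOpens) :
    haveI : IsAffine U.1.toScheme := U.2
    K.comap U.1.ι = IdealSheafData.ofIdealTop (X := U.1.toScheme) (K.ideal (affTop U)) := by
  haveI : IsAffine U.1.toScheme := U.2
  apply IdealSheafData.ext_of_isAffine
  rw [IdealSheafData.ideal_comap_of_isOpenImmersion]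
  simp [Scheme.Opens.ι_appIso, affTop]
  exact (Ideal.comap_id _).trans (Ideal.map_id _).symm

theorem ideal_comap_local (f : X ⟶ Y) (K : Y.IdealSheafData) (U : X.affineOpens)
    (V : Y.affineOpens) (e : U.1 ≤ f ⁻¹ᵁ V.1) :
    (K.comap f).ideal (affTop U) =
      Ideal.map (f.resLE V.1 U.1 e).appTop.hom (K.ideal (affTop V)) := by
  haveI : IsAffine U.1.toScheme := U.2
  haveI : IsAffine V.1.toScheme := V.2
  have h1 : (K.comap f).comap U.1.ι = (K.comap V.1.ι).comap (f.resLE V.1 U.1 e) := by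
    rw [← IdealSheafData.comap_comp, ← IdealSheafData.comap_comp, Scheme.Hom.resLE_comp_ι]
  rw [comap_ι, comap_ι, comap_ofIdealTop] at h1
  exact ofIdealTop_injective h1

theorem comap_mul (f : X ⟶ Y) (K₁ K₂ : Y.IdealSheafData) :
    (K₁ * K₂).comap f = K₁.comap f * K₂.comap f := by
  refine IdealSheafData.ext_of_iSup_eq_top
    (ι := {p : X.affineOpens × Y.affineOpens // p.1.1 ≤ f ⁻¹ᵁ p.2.1})
    (fun p => affTop p.1.1) ?_ ?_
  · rw [eq_top_iff]
    intro x _
    obtain ⟨_, ⟨V, hV, rfl⟩, hxV, -⟩ :=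
      Y.isBasis_affineOpens.exists_subset_of_mem_open (Set.mem_univ (f x)) isOpen_univ
    obtain ⟨_, ⟨U, hU, rfl⟩, hxU, hUV⟩ :=
      X.isBasis_affineOpens.exists_subset_of_mem_open (show x ∈ (f ⁻¹ᵁ V : Set X) from hxV)
        (f ⁻¹ᵁ V).isOpen
    refine TopologicalSpace.Opens.mem_iSup.mpr ⟨⟨(⟨U, hU⟩, ⟨V, hV⟩), hUV⟩, ?_⟩
    show x ∈ (affTop ⟨U, hU⟩).1
    rw [affTop_coe]
    exact hxU
  · rintro ⟨⟨U, V⟩, e⟩
    show ((K₁ * K₂).comap f).ideal (affTop U) =
      (K₁.comap f).ideal (affTop U) * (K₂.comap f).ideal (affTop U)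
    rw [ideal_comap_local f _ U V e, ideal_comap_local f K₁ U V e, ideal_comap_local f K₂ U V e]
    exact Ideal.map_mul (f.resLE V.1 U.1 e).appTop.hom (K₁.ideal (affTop V)) (K₂.ideal (affTop V))

theorem comap_pow (f : X ⟶ Y) (K : Y.IdealSheafData) (n : ℕ) :
    (K ^ n).comap f = K.comap f ^ n := by
  induction n with
  | zero => rw [pow_zero, pow_zero]; exact IdealSheafData.comap_top f
  | succ n ih => rw [pow_succ, pow_succ, comap_mul, ih]

end Local

section Spec

lemma comap_hom_eq_map_inv {A B : CommRingCat.{u}} (e : A ≅ B) (L : Ideal B) :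
    L.comap e.hom.hom = L.map e.inv.hom := by
  apply le_antisymm
  · intro x hx
    have h1 : e.inv.hom (e.hom.hom x) = x := by simp
    rw [← h1]
    exact Ideal.mem_map_of_mem _ hx
  · rw [Ideal.map_le_iff_le_comap, Ideal.comap_comap, ← CommRingCat.hom_comp, e.inv_hom_id]
    simp

/-- the ideal sheaf on `Spec R` of an ideal of `R`. -/
noncomputable def ofI (R : CommRingCat.{u}) (J : Ideal R) : (Spec R).IdealSheafData :=
  IdealSheafData.ofIdealTop (J.comap (Scheme.ΓSpecIso R).hom.hom)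

variable {R S : CommRingCat.{u}}

lemma ofI_le_iff {J J' : Ideal R} : ofI R J ≤ ofI R J' ↔ J ≤ J' := by
  rw [ofI, ofI, ofIdealTop_le_iff]
  exact Ideal.comap_le_comap_iff_of_surjective _
    (ConcreteCategory.bijective_of_isIso (Scheme.ΓSpecIso R).hom).surjective _ _

lemma ofI_injective {J J' : Ideal R} (h : ofI R J = ofI R J') : J = J' :=
  le_antisymm (ofI_le_iff.mp h.le) (ofI_le_iff.mp h.ge)

lemma exists_ofI (I : (Spec R).IdealSheafData) : ∃ J, I = ofI R J := by
  obtain ⟨J', rfl⟩ := exists_ofIdealTop I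
  refine ⟨J'.comap (Scheme.ΓSpecIso R).inv.hom, ?_⟩
  rw [ofI, Ideal.comap_comap, ← CommRingCat.hom_comp, Iso.hom_inv_id]
  simp

lemma ker_Spec_map (φ : R ⟶ S) : (Spec.map φ).ker = ofI R (RingHom.ker φ.hom) := by
  rw [Scheme.ker_of_isAffine, ofI]
  congr 1
  rw [RingHom.comap_ker, ← CommRingCat.hom_comp, ← Scheme.ΓSpecIso_naturality,
    CommRingCat.hom_comp]
  exact (RingHom.ker_comp_of_injective _
    (ConcreteCategory.bijective_of_isIso (Scheme.ΓSpecIso S).hom).injective).symm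

lemma ofI_eq_ker (J : Ideal R) :
    ofI R J = (Spec.map (CommRingCat.ofHom (Ideal.Quotient.mk J))).ker := by
  rw [ker_Spec_map]
  congr 1
  exact (Ideal.mk_ker).symm

lemma map_ofI (φ : R ⟶ S) (J : Ideal S) :
    (ofI S J).map (Spec.map φ) = ofI R (J.comap φ.hom) := by
  rw [ofI_eq_ker, IdealSheafData.map_ker, ← Spec.map_comp, ker_Spec_map]
  congr 1
  rw [CommRingCat.hom_comp, CommRingCat.hom_ofHom, ← RingHom.comap_ker, Ideal.mk_ker]

lemma comap_ofI (φ : R ⟶ S) (𝔟 : Ideal R) :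
    (ofI R 𝔟).comap (Spec.map φ) = ofI S (𝔟.map φ.hom) := by
  apply eq_of_forall_ge_iff
  intro c
  obtain ⟨J, rfl⟩ := exists_ofI c
  rw [← IdealSheafData.le_map_iff_comap_le, map_ofI, ofI_le_iff, ofI_le_iff,
    Ideal.map_le_iff_le_comap]

lemma ofI_mul (J J' : Ideal R) : ofI R (J * J') = ofI R J * ofI R J' := by
  simp only [ofI, comap_hom_eq_map_inv, Ideal.map_mul]
  exact map_mul (IdealSheafData.equivOfIsAffine (X := Spec R)).symm _ _

lemma ofI_pow (J : Ideal R) (n : ℕ) : ofI R (J ^ n) = ofI R J ^ n := by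
  simp only [ofI, comap_hom_eq_map_inv, Ideal.map_pow]
  exact map_pow (IdealSheafData.equivOfIsAffine (X := Spec R)).symm _ _

end Spec

end Groth.Agent.H20.IdealSh
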