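import Mathlib
import Groth.Prelude.Def_FSch3
import Groth.Agent.H20.IdealSh

/-! Tools for systems of thickenings `FSch.Sys`. -/

open CategoryTheory CategoryTheory.Limits AlgebraicGeometry AlgebraicGeometry.Scheme

namespace Groth.Agent.H20.FSysTools

universe u

/-- kernel of the first projection of a cartesian square along a closed immersion. -/
lemma ker_fst_of_isPullback {P X Y Z : Scheme.{u}} {fst : P ⟶ X} {snd : P ⟶ Y} {f : X ⟶ Z}
    {g : Y ⟶ Z} (h : IsPullback fst snd f g) [IsClosedImmersion g] :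
    fst.ker = g.ker.comap f :=
  calc fst.ker = Scheme.Hom.ker (h.isoPullback.hom ≫ pullback.fst f g) := by
        rw [h.isoPullback_hom_fst]
    _ = Scheme.Hom.ker (pullback.fst f g) := Scheme.Hom.ker_comp_of_isIso _ _
    _ = _ := Scheme.IdealSheafData.ker_fst_of_isClosedImmersion _ _

lemma isPullback_of_mono_fac {C : Type*} [Category C] {A B X : C} (i : A ⟶ B) (f : B ⟶ X)
    (g : A ⟶ X) [Mono f] (w : i ≫ f = g) : IsPullback i (𝟙 A) f g := by
  have hw : i ≫ f = 𝟙 A ≫ g := by rw [w, Category.id_comp]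
  exact IsPullback.of_isLimit (PullbackCone.IsLimit.mk hw (fun s => s.snd)
    (fun s => by
      rw [← cancel_mono f, Category.assoc, w, s.condition])
    (fun s => Category.comp_id _)
    (fun s m _ h2 => by rw [← h2, Category.comp_id]))

/-- kernel of the inclusion between closed subschemes. -/
lemma ker_inclusion {X : Scheme.{u}} {I J : X.IdealSheafData} (h : J ≤ I) :
    (IdealSheafData.inclusion h).ker = I.comap J.subschemeι := by
  have hp := isPullback_of_mono_fac (IdealSheafData.inclusion h) J.subschemeι I.subschemeι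
    (IdealSheafData.inclusion_subschemeι h)
  rw [ker_fst_of_isPullback hp, IdealSheafData.ker_subschemeι]

section Sys

open FSch

theorem toX_isClosedImmersion (𝔛 : FSch.Sys.{u}) (hF : 𝔛.IsFormal) :
    ∀ m, IsClosedImmersion (𝔛.toX m)
  | 0 => (inferInstance : IsClosedImmersion (𝟙 _))
  | m + 1 => by
      haveI := toX_isClosedImmersion 𝔛 hF m
      haveI := (hF m).1
      exact (inferInstance : IsClosedImmersion (𝔛.toX m ≫ 𝔛.ι m))

theorem toX_isPullback {𝔜 𝔛 : FSch.Sys.{u}} (f : 𝔜 ⟶ 𝔛) (hf : FSch.IsAdicHom f) :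
    ∀ m, IsPullback (𝔜.toX m) ((f : FSch.Hom 𝔜 𝔛).app 0) ((f : FSch.Hom 𝔜 𝔛).app m) (𝔛.toX m)
  | 0 => IsPullback.id_horiz _
  | m + 1 => (toX_isPullback f hf m).paste_horiz (hf m)

/-- An adic morphism to a formal adic system has formal adic source. -/
theorem isFormal_isAdic_of_isAdicHom {𝔜 𝔛 : FSch.Sys.{u}} (f : 𝔜 ⟶ 𝔛) (hf : FSch.IsAdicHom f)
    (hF : 𝔛.IsFormal) (hA : 𝔛.IsAdic) : 𝔜.IsFormal ∧ 𝔜.IsAdic := by
  constructor
  · intro n
    have sq := (hf n).flip
    constructor
    · exact MorphismProperty.of_isPullback (P := @IsClosedImmersion) sq (hF n).1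
    · have : Surjective (𝔛.ι n) := ⟨(hF n).2⟩
      exact (MorphismProperty.of_isPullback (P := @Surjective) sq this).surj
  · intro n
    haveI := (hF n).1
    haveI := toX_isClosedImmersion 𝔛 hF (n + 1)
    rw [ker_fst_of_isPullback (hf n), hA n, IdealSh.comap_pow,
      ker_fst_of_isPullback (toX_isPullback f hf (n + 1))]

end Sys

end Groth.Agent.H20.FSysTools
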