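import Mathlib
import Groth.Prelude.Def_FSch3
import Groth.Agent.H20.IdealSh
import Groth.Agent.H20.FSysTools

/-! Locally Noetherian levels of adic systems of thickenings. -/

open CategoryTheory CategoryTheory.Limits AlgebraicGeometry AlgebraicGeometry.Scheme

namespace Groth.Agent.H20.FSysNoeth

universe u

section Algebra

variable {R T : Type*} [CommRing R] [CommRing T]

lemma exists_fg_le_sup_ker (ρ : R →+* T) (hρ : Function.Surjective ρ) (P : Ideal R)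
    (h : (P.map ρ).FG) : ∃ c : Ideal R, c ≤ P ∧ c.FG ∧ P ≤ c ⊔ RingHom.ker ρ := by
  classical
  have h' : (Submodule.span T (ρ '' (P : Set R))).FG := h
  rw [Submodule.fg_span_iff_fg_span_finset_subset] at h'
  obtain ⟨s', hs', hspan⟩ := h'
  obtain ⟨s, hs, rfl⟩ := Finset.subset_set_image_iff.mp hs'
  have hmap : (Ideal.span (s : Set R)).map ρ = P.map ρ := by
    rw [Ideal.map_span]
    refine Eq.trans ?_ hspan.symm
    rw [Finset.coe_image]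
  refine ⟨Ideal.span (s : Set R), Ideal.span_le.mpr hs, ⟨s, rfl⟩, ?_⟩
  calc P ≤ (P.map ρ).comap ρ := Ideal.le_comap_map
    _ = ((Ideal.span (s : Set R)).map ρ).comap ρ := by rw [hmap]
    _ = Ideal.span (s : Set R) ⊔ RingHom.ker ρ := Ideal.comap_map_of_surjective ρ hρ _

lemma fg_of_map_fg_of_nilpotent (ρ : R →+* T) (hρ : Function.Surjective ρ) (a : Ideal R)
    (hker : RingHom.ker ρ ≤ a ^ 2) (m : ℕ) (hm : a ^ m = ⊥) (h : (a.map ρ).FG) : a.FG := by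
  obtain ⟨c, hca, hc, hac⟩ := exists_fg_le_sup_ker ρ hρ a h
  have h2 : a ≤ c ⊔ a ^ 2 := hac.trans (sup_le_sup_left hker c)
  have key : ∀ k : ℕ, a ≤ c ⊔ a ^ (k + 1) := by
    intro k
    induction k with
    | zero => rw [zero_add, pow_one]; exact le_sup_right
    | succ k ih =>
      have h3 : a ^ 2 ≤ c ⊔ a ^ (k + 1 + 1) := by
        calc a ^ 2 = a * a := pow_two a
          _ ≤ (c ⊔ a ^ (k + 1)) * a := Ideal.mul_mono ih le_rfl
          _ = c * a ⊔ a ^ (k + 1) * a := Ideal.sup_mul _ _ _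
          _ ≤ c ⊔ a ^ (k + 1 + 1) :=
            sup_le_sup (Ideal.mul_le.2 fun r hr s _ => c.mul_mem_right s hr)
              (pow_succ a (k + 1)).symm.le
      exact h2.trans (sup_le le_sup_left h3)
  have hm1 : a ^ (m + 1) = ⊥ := by rw [pow_succ, hm, Ideal.bot_mul]
  have hle : a ≤ c := by
    have := key m
    rwa [hm1, sup_bot_eq] at this
  have : a = c := le_antisymm hle hca
  rw [this]; exact hc

lemma isNoetherianRing_of_ker_fg_nilpotent (ρ : R →+* T) (hρ : Function.Surjective ρ)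
    [IsNoetherianRing T] (hfg : (RingHom.ker ρ).FG) (m : ℕ) (hm : RingHom.ker ρ ^ m = ⊥) :
    IsNoetherianRing R := by
  apply IsNoetherianRing.of_prime
  intro P hP
  have haP : RingHom.ker ρ ≤ P := fun x hx => hP.mem_of_pow_mem m (by
    have h1 := Ideal.pow_mem_pow hx m
    rw [hm] at h1
    rw [Ideal.mem_bot.mp h1]; exact P.zero_mem)
  obtain ⟨c, hcP, hc, hPc⟩ := exists_fg_le_sup_ker ρ hρ P (_root_.IsNoetherian.noetherian _)
  have : P = c ⊔ RingHom.ker ρ := le_antisymm hPc (sup_le hcP haP)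
  rw [this]; exact Submodule.FG.sup hc hfg

end Algebra

section Cat

lemma isPullback_left_of_cube {C : Type*} [Category C] {P P' X X' S S' T T' : C}
    {p : P ⟶ P'} {fst : P ⟶ X} {snd : P ⟶ T} {fst' : P' ⟶ X'} {snd' : P' ⟶ T'}
    {f : X ⟶ S} {g : T ⟶ S} {f' : X' ⟶ S'} {g' : T' ⟶ S'}
    {iX : X ⟶ X'} {iS : S ⟶ S'} {iT : T ⟶ T'}
    (A : IsPullback fst snd f g) (A' : IsPullback fst' snd' f' g')
    (B : IsPullback iX f f' iS) (e1 : p ≫ fst' = fst ≫ iX) (e2 : p ≫ snd' = snd ≫ iT)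
    (e3 : g ≫ iS = iT ≫ g') : IsPullback p snd snd' iT := by
  have C := A.paste_horiz B
  rw [← e1, e3] at C
  exact IsPullback.of_right C e2 A'

end Cat

section Ker

variable {X Y Z : Scheme.{u}}

lemma ker_eq_comap_ker_comp (t : X ⟶ Y) (k : Y ⟶ Z) [IsClosedImmersion t]
    [IsClosedImmersion k] : t.ker = (t ≫ k).ker.comap k :=
  FSysTools.ker_fst_of_isPullback (FSysTools.isPullback_of_mono_fac t k (t ≫ k) rfl)

lemma comap_ker_self (k : Y ⟶ Z) [IsClosedImmersion k] : k.ker.comap k = ⊥ := by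
  have h := ker_eq_comap_ker_comp (𝟙 Y) k
  rw [Category.id_comp, Scheme.Hom.ker_eq_bot_of_isIso (𝟙 Y)] at h
  exact h.symm

lemma iSup_affTop_eq_top (f : X ⟶ Y) :
    (⨆ p : {p : X.affineOpens × Y.affineOpens // p.1.1 ≤ f ⁻¹ᵁ p.2.1},
      ((IdealSh.affTop p.1.1 : X.affineOpens) : X.Opens)) = ⊤ := by
  rw [eq_top_iff]
  intro x _
  obtain ⟨_, ⟨V, hV, rfl⟩, hxV, -⟩ :=
    Y.isBasis_affineOpens.exists_subset_of_mem_open (Set.mem_univ (f x)) isOpen_univ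
  obtain ⟨_, ⟨U, hU, rfl⟩, hxU, hUV⟩ :=
    X.isBasis_affineOpens.exists_subset_of_mem_open (show x ∈ (f ⁻¹ᵁ V : Set X) from hxV)
      (f ⁻¹ᵁ V).isOpen
  refine TopologicalSpace.Opens.mem_iSup.mpr ⟨⟨(⟨U, hU⟩, ⟨V, hV⟩), hUV⟩, ?_⟩
  show x ∈ (IdealSh.affTop ⟨U, hU⟩).1
  rw [IdealSh.affTop_coe]
  exact hxU

lemma isNoetherianRing_of_thickening {X₀ X : Scheme.{u}} (t : X₀ ⟶ X) [IsClosedImmersion t]
    [IsLocallyNoetherian X₀] (W : X.affineOpens) (hfg : (t.ker.ideal W).FG) (m : ℕ)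
    (hnil : t.ker.ideal W ^ m = ⊥) : IsNoetherianRing Γ(X, W) := by
  have hsurj : Function.Surjective (t.app W).hom := t.app_surjective W.1 W.2
  haveI : IsNoetherianRing Γ(X₀, t ⁻¹ᵁ W) :=
    IsLocallyNoetherian.component_noetherian (X := X₀) ⟨_, W.2.preimage t⟩
  have hk := Scheme.Hom.ker_apply t W
  rw [hk] at hfg hnil
  exact isNoetherianRing_of_ker_fg_nilpotent _ hsurj hfg m hnil

end Ker

section Sys

open FSch

theorem toX_ker_pow_eq_bot (𝔛 : FSch.Sys.{u}) (hF : 𝔛.IsFormal) (hA : 𝔛.IsAdic) (m : ℕ) :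
    (𝔛.toX m).ker ^ (m + 1) = ⊥ := by
  haveI := (hF m).1
  haveI := FSysTools.toX_isClosedImmersion 𝔛 hF m
  have h1 : (𝔛.toX m).ker = (𝔛.toX (m + 1)).ker.comap (𝔛.ι m) :=
    ker_eq_comap_ker_comp (𝔛.toX m) (𝔛.ι m)
  rw [h1, ← IdealSh.comap_pow, ← hA m]
  exact comap_ker_self (𝔛.ι m)

theorem toX_ker_ideal_pow_eq_bot (𝔛 : FSch.Sys.{u}) (hF : 𝔛.IsFormal) (hA : 𝔛.IsAdic) (m : ℕ)
    (U : (𝔛.X m).affineOpens) : (𝔛.toX m).ker.ideal U ^ (m + 1) = ⊥ := by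
  have h2 := congrArg (fun I => I.ideal U) (toX_ker_pow_eq_bot 𝔛 hF hA m)
  first
    | exact h2
    | simpa using h2

theorem toX_ker_idealFT (𝔛 : FSch.Sys.{u}) (hF : 𝔛.IsFormal) (hA : 𝔛.IsAdic)
    (hft : FSch.IdealFT (𝔛.ι 0).ker) : ∀ n, FSch.IdealFT (𝔛.toX (n + 1)).ker := by
  intro n
  induction n with
  | zero =>
    have e : 𝔛.toX (0 + 1) = 𝔛.ι 0 := Category.id_comp (𝔛.ι 0)
    intro U
    have := hft U
    rwa [← e] at this
  | succ n ih =>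
    intro U
    haveI := (hF (n + 1)).1
    haveI := FSysTools.toX_isClosedImmersion 𝔛 hF (n + 1)
    haveI := FSysTools.toX_isClosedImmersion 𝔛 hF (n + 1 + 1)
    have hcomp : (𝔛.toX (n + 1 + 1)).ker = (𝔛.toX (n + 1)).ker.map (𝔛.ι (n + 1)) :=
      Scheme.Hom.ker_comp (𝔛.toX (n + 1)) (𝔛.ι (n + 1))
    have ha : (𝔛.toX (n + 1 + 1)).ker.ideal U =
        ((𝔛.toX (n + 1)).ker.ideal ⟨_, U.2.preimage (𝔛.ι (n + 1))⟩).comap
          ((𝔛.ι (n + 1)).app U).hom := by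
      rw [hcomp, IdealSheafData.ideal_map_of_isAffineHom]
    have hsurj : Function.Surjective ((𝔛.ι (n + 1)).app U).hom :=
      (𝔛.ι (n + 1)).app_surjective U.1 U.2
    have hker : RingHom.ker ((𝔛.ι (n + 1)).app U).hom =
        ((𝔛.toX (n + 1 + 1)).ker.ideal U) ^ (n + 1 + 1) := by
      have h1 := Scheme.Hom.ker_apply (𝔛.ι (n + 1)) U
      rw [hA (n + 1)] at h1
      exact h1.symm
    have hnil := toX_ker_ideal_pow_eq_bot 𝔛 hF hA (n + 1 + 1) U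
    refine fg_of_map_fg_of_nilpotent _ hsurj _ ?_ _ hnil ?_
    · rw [hker]; exact Ideal.pow_le_pow_right (by omega)
    · rw [ha, Ideal.map_comap_of_surjective _ hsurj]
      exact ih _

/-- core of S3853 -/
theorem isLocallyNoetherian_level (𝔛 : FSch.Sys.{u}) (hF : 𝔛.IsFormal) (hA : 𝔛.IsAdic)
    [IsLocallyNoetherian (𝔛.X 0)] (hft : FSch.IdealFT (𝔛.ι 0).ker) (n : ℕ) :
    IsLocallyNoetherian (𝔛.X n) := by
  cases n with
  | zero => infer_instance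
  | succ n =>
    haveI := FSysTools.toX_isClosedImmersion 𝔛 hF (n + 1)
    refine ⟨fun U => ?_⟩
    exact isNoetherianRing_of_thickening (𝔛.toX (n + 1)) U (toX_ker_idealFT 𝔛 hF hA hft n U)
      (n + 1 + 1) (toX_ker_ideal_pow_eq_bot 𝔛 hF hA (n + 1) U)

/-- S3857 -/
theorem isLocNoethFormal_of_isAdicHom {𝔛 𝔖 : FSch.Sys.{u}} (f : 𝔛 ⟶ 𝔖)
    (h𝔖 : 𝔖.IsLocNoethFormal) (hf : FSch.IsAdicHom f) [IsLocallyNoetherian (𝔛.X 0)] :
    𝔛.IsLocNoethFormal := by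
  obtain ⟨hF, hA⟩ := FSysTools.isFormal_isAdic_of_isAdicHom f hf h𝔖.1 h𝔖.2.1
  refine ⟨hF, hA, fun n => ?_⟩
  haveI := FSysTools.toX_isClosedImmersion 𝔛 hF n
  haveI := FSysTools.toX_isClosedImmersion 𝔖 h𝔖.1 n
  haveI := h𝔖.2.2 n
  have hker : (𝔛.toX n).ker = (𝔖.toX n).ker.comap ((f : FSch.Hom 𝔛 𝔖).app n) :=
    FSysTools.ker_fst_of_isPullback (FSysTools.toX_isPullback f hf n)
  refine isLocallyNoetherian_of_affine_cover
    (S := fun p : {p : (𝔛.X n).affineOpens × (𝔖.X n).affineOpens //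
      p.1.1 ≤ ((f : FSch.Hom 𝔛 𝔖).app n) ⁻¹ᵁ p.2.1} => IdealSh.affTop p.1.1)
    (iSup_affTop_eq_top _) ?_
  rintro ⟨⟨U, V⟩, e⟩
  refine isNoetherianRing_of_thickening (𝔛.toX n) (IdealSh.affTop U) ?_ (n + 1)
    (toX_ker_ideal_pow_eq_bot 𝔛 hF hA n _)
  rw [hker, IdealSh.ideal_comap_local _ _ U V e]
  haveI : IsNoetherianRing Γ(𝔖.X n, (IdealSh.affTop V).1) :=
    IsLocallyNoetherian.component_noetherian _
  exact Ideal.FG.map (_root_.IsNoetherian.noetherian _) _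

theorem pullbackSnd_isAdicHom {𝔛 𝔖 𝔖' : FSch.Sys.{u}} (f : 𝔛 ⟶ 𝔖) (g : 𝔖' ⟶ 𝔖)
    (hf : FSch.IsAdicHom f) : FSch.IsAdicHom (FSch.pullbackSnd f g) := by
  intro n
  have A : IsPullback ((FSch.pullbackFst f g : FSch.Hom _ _).app n)
      ((FSch.pullbackSnd f g : FSch.Hom _ _).app n) ((f : FSch.Hom 𝔛 𝔖).app n)
      ((g : FSch.Hom 𝔖' 𝔖).app n) := IsPullback.of_hasPullback _ _
  have A' : IsPullback ((FSch.pullbackFst f g : FSch.Hom _ _).app (n + 1))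
      ((FSch.pullbackSnd f g : FSch.Hom _ _).app (n + 1)) ((f : FSch.Hom 𝔛 𝔖).app (n + 1))
      ((g : FSch.Hom 𝔖' 𝔖).app (n + 1)) := IsPullback.of_hasPullback _ _
  exact isPullback_left_of_cube A A' (hf n)
    ((FSch.pullbackFst f g : FSch.Hom _ _).comm n).symm
    ((FSch.pullbackSnd f g : FSch.Hom _ _).comm n).symm
    ((g : FSch.Hom 𝔖' 𝔖).comm n)

/-- S3858 -/
theorem pullbackSys_isLocNoethFormal {𝔛 𝔖 𝔖' : FSch.Sys.{u}} (f : 𝔛 ⟶ 𝔖) (g : 𝔖' ⟶ 𝔖)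
    (h𝔖' : 𝔖'.IsLocNoethFormal) (hf : FSch.IsAdicHom f)
    [LocallyOfFiniteType ((f : FSch.Hom 𝔛 𝔖).app 0)] :
    (FSch.pullbackSys f g).IsLocNoethFormal ∧ FSch.IsAdicHom (FSch.pullbackSnd f g) ∧
      LocallyOfFiniteType ((FSch.pullbackSnd f g : FSch.Hom _ _).app 0) := by
  have hadic := pullbackSnd_isAdicHom f g hf
  haveI hloft : LocallyOfFiniteType ((FSch.pullbackSnd f g : FSch.Hom _ _).app 0) :=
    (inferInstance : LocallyOfFiniteType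
      (pullback.snd ((f : FSch.Hom 𝔛 𝔖).app 0) ((g : FSch.Hom 𝔖' 𝔖).app 0)))
  haveI := h𝔖'.2.2 0
  haveI : IsLocallyNoetherian ((FSch.pullbackSys f g).X 0) :=
    LocallyOfFiniteType.isLocallyNoetherian ((FSch.pullbackSnd f g : FSch.Hom _ _).app 0)
  exact ⟨isLocNoethFormal_of_isAdicHom (FSch.pullbackSnd f g) h𝔖' hadic, hadic, hloft⟩

end Sys

end Groth.Agent.H20.FSysNoeth
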