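import Mathlib
import Groth.Prelude.Def_FSch3

/-! A levelwise cartesian square of systems is cartesian. -/

open CategoryTheory CategoryTheory.Limits AlgebraicGeometry

namespace Groth.Agent.H20.FSysTools

universe u

theorem isPullback_of_levelwise {𝔓 𝔛 𝔜 𝔖 : FSch.Sys.{u}} (p : 𝔓 ⟶ 𝔛) (q : 𝔓 ⟶ 𝔜)
    (g : 𝔛 ⟶ 𝔖) (h : 𝔜 ⟶ 𝔖)
    (H : ∀ n, IsPullback (FSch.Hom.app p n) (FSch.Hom.app q n) (FSch.Hom.app g n)
      (FSch.Hom.app h n)) :
    IsPullback p q g h := by
  have w : p ≫ g = q ≫ h := FSch.Hom.ext (funext fun n => (H n).w)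
  have hcond : ∀ (s : PullbackCone g h) (n : ℕ),
      FSch.Hom.app s.fst n ≫ FSch.Hom.app g n = FSch.Hom.app s.snd n ≫ FSch.Hom.app h n :=
    fun s n => congrArg (fun φ : s.pt ⟶ 𝔖 => FSch.Hom.app φ n) s.condition
  let liftApp : ∀ (s : PullbackCone g h) (n : ℕ), s.pt.X n ⟶ 𝔓.X n := fun s n =>
    (H n).lift (FSch.Hom.app s.fst n) (FSch.Hom.app s.snd n) (hcond s n)
  have hl1 : ∀ s n, liftApp s n ≫ FSch.Hom.app p n = FSch.Hom.app s.fst n :=
    fun s n => (H n).lift_fst _ _ _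
  have hl2 : ∀ s n, liftApp s n ≫ FSch.Hom.app q n = FSch.Hom.app s.snd n :=
    fun s n => (H n).lift_snd _ _ _
  let lift : ∀ s : PullbackCone g h, s.pt ⟶ 𝔓 := fun s =>
    { app := fun n => liftApp s n
      comm := fun n => by
        apply (H (n + 1)).hom_ext
        · rw [Category.assoc, Category.assoc, hl1, ← FSch.Hom.comm p n, ← Category.assoc, hl1]
          exact FSch.Hom.comm s.fst n
        · rw [Category.assoc, Category.assoc, hl2, ← FSch.Hom.comm q n, ← Category.assoc, hl2]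
          exact FSch.Hom.comm s.snd n }
  exact IsPullback.of_isLimit (PullbackCone.IsLimit.mk w lift
    (fun s => FSch.Hom.ext (funext fun n => hl1 s n))
    (fun s => FSch.Hom.ext (funext fun n => hl2 s n))
    (fun s m h1 h2 => FSch.Hom.ext (funext fun n => (H n).hom_ext
      ((congrArg (fun φ : s.pt ⟶ 𝔛 => FSch.Hom.app φ n) h1).trans (hl1 s n).symm)
      ((congrArg (fun φ : s.pt ⟶ 𝔜 => FSch.Hom.app φ n) h2).trans (hl2 s n).symm))))

end Groth.Agent.H20.FSysTools
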