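import Mathlib
import Groth.Prelude.Def_FlatCA

/-!
# Fibre modules `(κ(p) ⊗ S) ⊗_S N` and their associated primes (helper20)
-/

set_option autoImplicit false
universe u

namespace Groth.Agent.H20.FiberMod

open TensorProduct

attribute [local instance] Algebra.TensorProduct.rightAlgebra

theorem ass_iff {A : Type*} [CommRing A] {M : Type*} [AddCommGroup M] [Module A M] (q : Ideal A) :
    q ∈ FlatCA.ass A M ↔ q.IsPrime ∧ ∃ m : M, ∀ s, s ∈ q ↔ s • m = 0 := by
  constructor
  · rintro ⟨h1, m, h2⟩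
    exact ⟨h1, m, fun s => by rw [h2, Submodule.mem_annihilator_span_singleton]⟩
  · rintro ⟨h1, m, h2⟩
    exact ⟨h1, m, Ideal.ext fun s => by rw [h2, Submodule.mem_annihilator_span_singleton]⟩

variable {R S : Type u} [CommRing R] [CommRing S] [Algebra R S] (p : Ideal R) [p.IsPrime]
  {N : Type u} [AddCommGroup N] [Module S N] [Module R N] [IsScalarTower R S N]

theorem isUnit_algebraMap_fiber {t : R} (ht : t ∉ p) : IsUnit (algebraMap R (p.Fiber S) t) := by
  have hu : IsUnit (algebraMap R p.ResidueField t) := by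
    rw [isUnit_iff_ne_zero, Ne, Ideal.algebraMap_residueField_eq_zero]
    exact ht
  rw [IsScalarTower.algebraMap_apply R p.ResidueField (p.Fiber S)]
  exact hu.map _

theorem smul_compat (s : S) (x : (p.Fiber S) ⊗[S] N) :
    s • x = (algebraMap S (p.Fiber S) s) • x := by
  induction x using TensorProduct.induction_on with
  | zero => simp
  | tmul a n =>
    rw [TensorProduct.smul_tmul', TensorProduct.smul_tmul', Algebra.smul_def, smul_eq_mul]
  | add x y hx hy => rw [smul_add, smul_add, hx, hy]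

theorem smul_eq_zero_of_not_mem {t : R} (ht : t ∉ p) (x : (p.Fiber S) ⊗[S] N)
    (h : (algebraMap R S t) • x = 0) : x = 0 := by
  rw [smul_compat, ← IsScalarTower.algebraMap_apply R S (p.Fiber S)] at h
  exact (isUnit_algebraMap_fiber p ht).smul_eq_zero.mp h

theorem exists_smul_eq_one_tmul (x : (p.Fiber S) ⊗[S] N) :
    ∃ t : R, t ∉ p ∧ ∃ n : N, (algebraMap R S t) • x = (1 : p.Fiber S) ⊗ₜ[S] n := by
  induction x using TensorProduct.induction_on with
  | zero => exact ⟨1, p.primeCompl.one_mem, 0, by simp⟩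
  | tmul a n =>
    obtain ⟨r, hr, s, e⟩ := Ideal.Fiber.exists_smul_eq_one_tmul p a
    refine ⟨r, hr, s • n, ?_⟩
    have hs : ((1 : p.ResidueField) ⊗ₜ[R] s : p.Fiber S) = s • (1 : p.Fiber S) := by
      rw [Algebra.smul_def, mul_one]; rfl
    rw [TensorProduct.smul_tmul', algebraMap_smul, e, hs, TensorProduct.smul_tmul]
  | add x y hx hy =>
    obtain ⟨t1, ht1, n1, e1⟩ := hx
    obtain ⟨t2, ht2, n2, e2⟩ := hy
    refine ⟨t1 * t2, p.primeCompl.mul_mem ht1 ht2,
      (algebraMap R S t2) • n1 + (algebraMap R S t1) • n2, ?_⟩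
    rw [smul_add, map_mul, mul_smul, mul_smul, TensorProduct.tmul_add, TensorProduct.tmul_smul,
      TensorProduct.tmul_smul, ← e1, ← e2,
      smul_comm (algebraMap R S t1) (algebraMap R S t2) x]

theorem one_tmul_eq_zero_of_mem (n : N)
    (hn : n ∈ (p.map (algebraMap R S)) • (⊤ : Submodule S N)) :
    (1 : p.Fiber S) ⊗ₜ[S] n = 0 := by
  have hJ : ∀ s ∈ p.map (algebraMap R S), algebraMap S (p.Fiber S) s = 0 := by
    have : p.map (algebraMap R S) ≤ RingHom.ker (algebraMap S (p.Fiber S)) := by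
      rw [Ideal.map_le_iff_le_comap]
      intro a ha
      rw [Ideal.mem_comap, RingHom.mem_ker, ← IsScalarTower.algebraMap_apply R S (p.Fiber S),
        IsScalarTower.algebraMap_apply R p.ResidueField (p.Fiber S),
        (Ideal.algebraMap_residueField_eq_zero).mpr ha, map_zero]
    exact fun s hs => this hs
  refine Submodule.smul_induction_on hn ?_ ?_
  · intro s hs m _
    rw [← TensorProduct.smul_tmul, Algebra.smul_def, hJ s hs, zero_mul, TensorProduct.zero_tmul]
  · intro x y hx hy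
    rw [TensorProduct.tmul_add, hx, hy, add_zero]

theorem exists_smul_mem_of_one_tmul_eq_zero (n : N) (h : (1 : p.Fiber S) ⊗ₜ[S] n = 0) :
    ∃ t : R, t ∉ p ∧
      (algebraMap R S t) • n ∈ (p.map (algebraMap R S)) • (⊤ : Submodule S N) := by
  have hA : n ⊗ₜ[R] (1 : p.ResidueField) = 0 := by
    have h1 := congrArg (TensorProduct.comm S (p.Fiber S) N) h
    rw [map_zero, TensorProduct.comm_tmul] at h1
    have h2 := congrArg (TensorProduct.congr (LinearEquiv.refl S N)
      (Algebra.TensorProduct.commRight R S p.ResidueField).symm.toLinearEquiv) h1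
    rw [map_zero, TensorProduct.congr_tmul] at h2
    have h3 := congrArg
      (TensorProduct.AlgebraTensorModule.cancelBaseChange R S S N p.ResidueField) h2
    rw [map_zero] at h3
    simpa [Algebra.TensorProduct.one_def] using h3
  have hB : (1 : p.ResidueField) ⊗ₜ[R ⧸ p] ((1 : R ⧸ p) ⊗ₜ[R] n) = 0 := by
    have h1 := congrArg (TensorProduct.comm R N p.ResidueField) hA
    rw [map_zero, TensorProduct.comm_tmul] at h1
    have h2 := congrArg (TensorProduct.AlgebraTensorModule.cancelBaseChange R (R ⧸ p) (R ⧸ p)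
      p.ResidueField N).symm h1
    rw [map_zero, TensorProduct.AlgebraTensorModule.cancelBaseChange_symm_tmul] at h2
    exact h2
  have hC := (IsLocalizedModule.eq_zero_iff (nonZeroDivisors (R ⧸ p))
      (TensorProduct.mk (R ⧸ p) p.ResidueField ((R ⧸ p) ⊗[R] N) 1)).mp hB
  obtain ⟨⟨c, hc⟩, hc0⟩ := hC
  obtain ⟨t, rfl⟩ := Ideal.Quotient.mk_surjective c
  refine ⟨t, ?_, ?_⟩
  · intro htp
    have : Ideal.Quotient.mk p t = 0 := Ideal.Quotient.eq_zero_iff_mem.mpr htp
    exact nonZeroDivisors.ne_zero hc this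
  · have h1 : (Ideal.Quotient.mk p t) ⊗ₜ[R] n = (0 : (R ⧸ p) ⊗[R] N) := by
      have : (Ideal.Quotient.mk p t) • ((1 : R ⧸ p) ⊗ₜ[R] n) = 0 := hc0
      rwa [TensorProduct.smul_tmul', smul_eq_mul, mul_one] at this
    have h2 := congrArg (TensorProduct.quotTensorEquivQuotSMul N p) h1
    rw [map_zero, TensorProduct.quotTensorEquivQuotSMul_mk_tmul,
      Submodule.Quotient.mk_eq_zero] at h2
    rw [algebraMap_smul]
    have h3 := Ideal.smul_restrictScalars (R := R) (S := S) p (⊤ : Submodule S N)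
    rw [Submodule.restrictScalars_top] at h3
    have h4 : t • n ∈ ((p.map (algebraMap R S)) • (⊤ : Submodule S N)).restrictScalars R := by
      rw [h3]; exact h2
    exact h4

/-- S9665 on the raw tensor product. -/
theorem ass_fiber_of_ass_quot (q : Ideal S) (hq : q.comap (algebraMap R S) = p)
    (h : q ∈ FlatCA.ass S (N ⧸ (p.map (algebraMap R S)) • (⊤ : Submodule S N))) :
    q ∈ FlatCA.ass S ((p.Fiber S) ⊗[S] N) := by
  rw [ass_iff] at h ⊢
  obtain ⟨hp, m, hm⟩ := h
  obtain ⟨m, rfl⟩ := Submodule.Quotient.mk_surjective _ m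
  have hm' : ∀ s, s ∈ q ↔ s • m ∈ (p.map (algebraMap R S)) • (⊤ : Submodule S N) := fun s => by
    rw [hm, ← Submodule.Quotient.mk_smul, Submodule.Quotient.mk_eq_zero]
  refine ⟨hp, (1 : p.Fiber S) ⊗ₜ[S] m, fun s => ?_⟩
  rw [hm', ← TensorProduct.tmul_smul]
  constructor
  · exact one_tmul_eq_zero_of_mem p _
  · intro h0
    obtain ⟨t, htp, ht⟩ := exists_smul_mem_of_one_tmul_eq_zero p _ h0
    have h1 : (algebraMap R S t * s) ∈ q := by
      rw [hm', mul_smul]; exact ht
    rcases Ideal.IsPrime.mem_or_mem hp h1 with h2 | h2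
    · exact absurd (by rw [← hq]; exact h2) htp
    · exact (hm' s).mp h2

/-- S9666 on the raw tensor product. -/
theorem ass_quot_of_ass_fiber [IsNoetherianRing S] (q : Ideal S)
    (hq : q.comap (algebraMap R S) = p)
    (h : q ∈ FlatCA.ass S ((p.Fiber S) ⊗[S] N)) :
    q ∈ FlatCA.ass S (N ⧸ (p.map (algebraMap R S)) • (⊤ : Submodule S N)) := by
  rw [ass_iff] at h ⊢
  obtain ⟨hp, x, hx⟩ := h
  obtain ⟨t0, ht0, n, hn⟩ := exists_smul_eq_one_tmul p x
  have hqn : ∀ s, s ∈ q ↔ (1 : p.Fiber S) ⊗ₜ[S] (s • n) = 0 := by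
    intro s
    rw [hx, TensorProduct.tmul_smul, ← hn, smul_comm]
    constructor
    · intro h0; rw [h0, smul_zero]
    · intro h0; exact smul_eq_zero_of_not_mem p ht0 _ h0
  let Q : R → Ideal S := fun t => (Submodule.span S
    {(Submodule.Quotient.mk ((algebraMap R S t) • n) :
      N ⧸ (p.map (algebraMap R S)) • (⊤ : Submodule S N))}).annihilator
  have hQ : ∀ t s, s ∈ Q t ↔
      (algebraMap R S t) • s • n ∈ (p.map (algebraMap R S)) • (⊤ : Submodule S N) := by
    intro t s
    simp only [Q]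
    rw [Submodule.mem_annihilator_span_singleton, ← Submodule.Quotient.mk_smul,
      Submodule.Quotient.mk_eq_zero, smul_comm]
  obtain ⟨I, ⟨t, htp, rfl⟩, hmax⟩ := (wellFounded_gt (α := Ideal S)).has_min
    {I | ∃ t, t ∉ p ∧ I = Q t} ⟨Q 1, 1, p.primeCompl.one_mem, rfl⟩
  have hqt : ∀ s ∈ q, s ∈ Q t := by
    intro s hs
    obtain ⟨t', ht', hmem⟩ := exists_smul_mem_of_one_tmul_eq_zero p _ ((hqn s).mp hs)
    have hle : Q t ≤ Q (t * t') := by
      intro s' hs'
      rw [hQ] at hs' ⊢
      rw [map_mul, mul_comm, mul_smul]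
      exact Submodule.smul_mem _ _ hs'
    have heq : Q (t * t') = Q t := by
      by_contra hne
      exact hmax (Q (t * t')) ⟨t * t', p.primeCompl.mul_mem htp ht', rfl⟩
        (lt_of_le_of_ne hle (fun h => hne h.symm))
    rw [← heq, hQ, map_mul, mul_smul]
    exact Submodule.smul_mem _ _ hmem
  refine ⟨hp, Submodule.Quotient.mk ((algebraMap R S t) • n), fun s => ?_⟩
  rw [← Submodule.Quotient.mk_smul, Submodule.Quotient.mk_eq_zero]
  constructor
  · intro hs
    have := (hQ t s).mp (hqt s hs)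
    rwa [smul_comm] at this
  · intro hs
    have h1 : (s * algebraMap R S t) ∈ q := by
      rw [hqn, mul_smul]
      exact one_tmul_eq_zero_of_mem p _ hs
    rcases Ideal.IsPrime.mem_or_mem hp h1 with h2 | h2
    · exact h2
    · exact absurd (by rw [← hq]; exact h2) htp

theorem mem_of_smul_mem_of_flat [Module.Flat R N] {t : R} (ht : t ∉ p) (n : N)
    (h : (algebraMap R S t) • n ∈ (p.map (algebraMap R S)) • (⊤ : Submodule S N)) :
    n ∈ (p.map (algebraMap R S)) • (⊤ : Submodule S N) := by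
  have hres : ∀ m : N, m ∈ (p.map (algebraMap R S)) • (⊤ : Submodule S N) ↔
      m ∈ p • (⊤ : Submodule R N) := by
    intro m
    have h3 := Ideal.smul_restrictScalars (R := R) (S := S) p (⊤ : Submodule S N)
    rw [Submodule.restrictScalars_top] at h3
    rw [← h3]; exact Iff.rfl
  rw [hres] at h ⊢
  rw [algebraMap_smul] at h
  let f : (R ⧸ p) →ₗ[R] (R ⧸ p) := LinearMap.lsmul R (R ⧸ p) t
  have hf : Function.Injective f := by
    intro x y hxy
    have ht' : (Ideal.Quotient.mk p t) ≠ 0 := fun h0 => ht (Ideal.Quotient.eq_zero_iff_mem.mp h0)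
    have hxy' : t • x = t • y := hxy
    rw [Algebra.smul_def, Algebra.smul_def, Ideal.Quotient.algebraMap_eq] at hxy'
    exact mul_left_cancel₀ ht' hxy'
  have hinj := Module.Flat.rTensor_preserves_injective_linearMap (M := N) f hf
  have key : ∀ m : N, (1 : R ⧸ p) ⊗ₜ[R] m = 0 ↔ m ∈ p • (⊤ : Submodule R N) := by
    intro m
    rw [← (TensorProduct.quotTensorEquivQuotSMul N p).map_eq_zero_iff,
      ← map_one (Ideal.Quotient.mk p), TensorProduct.quotTensorEquivQuotSMul_mk_tmul, one_smul,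
      Submodule.Quotient.mk_eq_zero]
  have h1 : (f.rTensor N) ((1 : R ⧸ p) ⊗ₜ[R] n) = 0 := by
    rw [LinearMap.rTensor_tmul]
    show (t • (1 : R ⧸ p)) ⊗ₜ[R] n = 0
    rw [TensorProduct.smul_tmul, key]
    exact h
  have h2 : (1 : R ⧸ p) ⊗ₜ[R] n = 0 := hinj (by rw [h1, map_zero])
  exact (key n).mp h2

theorem comap_eq_of_ass_quot [Module.Flat R N] (q : Ideal S)
    (h : q ∈ FlatCA.ass S (N ⧸ (p.map (algebraMap R S)) • (⊤ : Submodule S N))) :
    q.comap (algebraMap R S) = p := by
  rw [ass_iff] at h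
  obtain ⟨hp, m, hm⟩ := h
  obtain ⟨m, rfl⟩ := Submodule.Quotient.mk_surjective _ m
  have hm' : ∀ s, s ∈ q ↔ s • m ∈ (p.map (algebraMap R S)) • (⊤ : Submodule S N) := fun s => by
    rw [hm, ← Submodule.Quotient.mk_smul, Submodule.Quotient.mk_eq_zero]
  have hmne : m ∉ (p.map (algebraMap R S)) • (⊤ : Submodule S N) := by
    intro hmem
    apply hp.ne_top
    rw [Ideal.eq_top_iff_one, hm', one_smul]; exact hmem
  ext a
  rw [Ideal.mem_comap, hm']
  constructor
  · intro h1
    by_contra ha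
    exact hmne (mem_of_smul_mem_of_flat p ha m h1)
  · intro ha
    exact Submodule.smul_mem_smul (Ideal.mem_map_of_mem _ ha) Submodule.mem_top

theorem ass_quot_of_ass_fiber_flat [Module.Flat R N] (q : Ideal S)
    (h : q ∈ FlatCA.ass S ((p.Fiber S) ⊗[S] N)) :
    q ∈ FlatCA.ass S (N ⧸ (p.map (algebraMap R S)) • (⊤ : Submodule S N)) := by
  rw [ass_iff] at h ⊢
  obtain ⟨hp, x, hx⟩ := h
  obtain ⟨t0, ht0, n, hn⟩ := exists_smul_eq_one_tmul p x
  refine ⟨hp, Submodule.Quotient.mk n, fun s => ?_⟩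
  rw [← Submodule.Quotient.mk_smul, Submodule.Quotient.mk_eq_zero, hx]
  have h1 : s • x = 0 ↔ (1 : p.Fiber S) ⊗ₜ[S] (s • n) = 0 := by
    rw [TensorProduct.tmul_smul, ← hn, smul_comm]
    constructor
    · intro h0; rw [h0, smul_zero]
    · intro h0; exact smul_eq_zero_of_not_mem p ht0 _ h0
  rw [h1]
  constructor
  · intro h0
    obtain ⟨t, htp, ht⟩ := exists_smul_mem_of_one_tmul_eq_zero p _ h0
    exact mem_of_smul_mem_of_flat p htp _ ht
  · exact one_tmul_eq_zero_of_mem p _

/-- S9664 on the raw tensor product. -/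
theorem ass_fiber_iff (q : Ideal S) [q.IsPrime] :
    q ∈ FlatCA.ass S ((p.Fiber S) ⊗[S] N) ↔
      ∃ Q ∈ FlatCA.ass (p.Fiber S) ((p.Fiber S) ⊗[S] N),
        Q.comap (Algebra.TensorProduct.includeRight (R := R) (A := p.ResidueField)
          (B := S)).toRingHom = q := by
  have hinc : ∀ (s : S) (x : (p.Fiber S) ⊗[S] N),
      ((Algebra.TensorProduct.includeRight (R := R) (A := p.ResidueField)
          (B := S)).toRingHom s) • x = s • x := by
    intro s x
    rw [smul_compat p s x]; rfl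
  constructor
  · intro h
    rw [ass_iff] at h
    obtain ⟨hp, x, hx⟩ := h
    have hx0 : x ≠ 0 := by
      rintro rfl
      apply hp.ne_top
      rw [Ideal.eq_top_iff_one, hx, smul_zero]
    have hQ : ∀ a : p.Fiber S, a ∈ (Submodule.span (p.Fiber S) {x}).annihilator ↔ a • x = 0 :=
      fun a => Submodule.mem_annihilator_span_singleton x a
    have hkey : ∀ (a : p.Fiber S) (r : R) (s : S), r ∉ p → r • a = (1 : p.ResidueField) ⊗ₜ[R] s →
        (a • x = 0 ↔ s ∈ q) := by
      intro a r s hr e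
      have e' : algebraMap S (p.Fiber S) s = algebraMap R (p.Fiber S) r * a := by
        rw [← Algebra.smul_def, e]; rfl
      rw [hx, smul_compat p s x, e', mul_smul]
      exact ((isUnit_algebraMap_fiber p hr).smul_eq_zero).symm
    refine ⟨(Submodule.span (p.Fiber S) {x}).annihilator, ⟨?_, x, rfl⟩, ?_⟩
    · rw [Ideal.isPrime_iff]
      refine ⟨?_, ?_⟩
      · intro htop
        have : (1 : p.Fiber S) ∈ (Submodule.span (p.Fiber S) {x}).annihilator := by
          rw [htop]; trivial
        rw [hQ, one_smul] at this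
        exact hx0 this
      · intro a b hab
        rw [hQ] at hab
        obtain ⟨ra, hra, sa, ea⟩ := Ideal.Fiber.exists_smul_eq_one_tmul p a
        obtain ⟨rb, hrb, sb, eb⟩ := Ideal.Fiber.exists_smul_eq_one_tmul p b
        have eab : (ra * rb) • (a * b) = (1 : p.ResidueField) ⊗ₜ[R] (sa * sb) := by
          rw [mul_smul_mul_comm, ea, eb, Algebra.TensorProduct.tmul_mul_tmul, mul_one]
        have h1 : sa * sb ∈ q :=
          (hkey (a * b) (ra * rb) (sa * sb) (p.primeCompl.mul_mem hra hrb) eab).mp hab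
        rcases hp.mem_or_mem h1 with h2 | h2
        · left
          rw [hQ]
          exact (hkey a ra sa hra ea).mpr h2
        · right
          rw [hQ]
          exact (hkey b rb sb hrb eb).mpr h2
    · ext s
      rw [Ideal.mem_comap, hQ, hinc, hx]
  · rintro ⟨Q, hQ, rfl⟩
    rw [ass_iff] at hQ ⊢
    obtain ⟨hQp, x, hx⟩ := hQ
    refine ⟨inferInstance, x, fun s => ?_⟩
    rw [Ideal.mem_comap, hx, hinc]

end Groth.Agent.H20.FiberMod
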