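import Mathlib.RingTheory.LocalRing.Module
import Mathlib.RingTheory.Flat.Basic

/-!
Helper lemmas about flatness (helper20).
-/

set_option autoImplicit false
universe u v w

namespace Groth.Agent.H20

open Function TensorProduct

/-- If `0 → N₁ → N₂ → N₃ → 0` is exact with `N₃` flat, then `Q ⊗ N₁ → Q ⊗ N₂` is injective for
every module `Q`. -/
theorem lTensor_injective_of_flat_cokernel {R : Type u} [CommRing R]
    {N₁ N₂ N₃ : Type*} [AddCommGroup N₁] [Module R N₁] [AddCommGroup N₂] [Module R N₂]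
    [AddCommGroup N₃] [Module R N₃]
    (g₁ : N₁ →ₗ[R] N₂) (g₂ : N₂ →ₗ[R] N₃) (hex : Exact g₁ g₂) (hsurj : Surjective g₂)
    (hinj : Injective g₁) [Module.Flat R N₃]
    (Q : Type*) [AddCommGroup Q] [Module R Q] : Injective (g₁.lTensor Q) := by
  let f₂ : (Q →₀ R) →ₗ[R] Q := Finsupp.linearCombination R id
  have hf₂ : Surjective f₂ := Finsupp.linearCombination_id_surjective R Q
  let f₁ : LinearMap.ker f₂ →ₗ[R] (Q →₀ R) := (LinearMap.ker f₂).subtype
  have hfex : Exact f₁ f₂ := LinearMap.exact_subtype_ker_map f₂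
  have hfinj : Injective (f₁.rTensor N₃) :=
    Module.Flat.rTensor_preserves_injective_linearMap f₁ (LinearMap.ker f₂).injective_subtype
  have hginj : Injective (g₁.lTensor (Q →₀ R)) :=
    Module.Flat.lTensor_preserves_injective_linearMap g₁ hinj
  refine lTensor_injective_of_exact_of_exact_of_rTensor_injective (M₁ := LinearMap.ker f₂) (M₂ := Q →₀ R) (M₃ := Q) (f₁ := f₁) (f₂ := f₂) (g₁ := g₁) (g₂ := g₂) hfex hf₂ hex hsurj ?_ ?_
  · exact hfinj
  · exact hginj

end Groth.Agent.H20
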