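import Mathlib

namespace Groth.Agent.H20

open IsLocalRing

/-- If the radical of `I` is prime, it is a minimal prime over `I`. -/
theorem radical_mem_minimalPrimes {A : Type*} [CommRing A] (I : Ideal A) (h : I.radical.IsPrime) :
    I.radical ∈ I.minimalPrimes := by
  refine ⟨⟨h, Ideal.le_radical⟩, ?_⟩
  rintro q ⟨hq, hIq⟩ _
  exact (hq.radical_le_iff).mpr hIq

/-- In a normal Noetherian domain, the localization at a prime minimal over a nonzero principal
ideal is a discrete valuation ring. -/
theorem isDVR_atPrime_of_mem_minimalPrimes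
    {A : Type*} [CommRing A] [IsDomain A] [IsNoetherianRing A] [IsIntegrallyClosed A]
    {z : A} (hz0 : z ≠ 0) (p : Ideal A) [hp : p.IsPrime]
    (hmin : p ∈ (Ideal.span {z}).minimalPrimes) :
    IsDiscreteValuationRing (Localization.AtPrime p) := by
  haveI : IsIntegrallyClosed (Localization.AtPrime p) :=
    isIntegrallyClosed_of_isLocalization _ p.primeCompl p.primeCompl_le_nonZeroDivisors
  have hht : p.height ≤ 1 :=
    Ideal.height_le_one_of_isPrincipal_of_mem_minimalPrimes _ p hmin
  have hzp : z ∈ p := hmin.1.2 (Ideal.mem_span_singleton_self z)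
  have hinj : Function.Injective (algebraMap A (Localization.AtPrime p)) :=
    IsLocalization.injective _ p.primeCompl_le_nonZeroDivisors
  have key : ∀ P : Ideal (Localization.AtPrime p), P ≠ ⊥ → P.IsPrime →
      P = maximalIdeal (Localization.AtPrime p) := by
    intro P hP hPp
    have hmc : Ideal.map (algebraMap A (Localization.AtPrime p))
        (Ideal.comap (algebraMap A (Localization.AtPrime p)) P) = P :=
      IsLocalization.map_under p.primeCompl _ P
    haveI hqp : (Ideal.comap (algebraMap A (Localization.AtPrime p)) P).IsPrime :=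
      Ideal.comap_isPrime _ _
    have hqle : Ideal.comap (algebraMap A (Localization.AtPrime p)) P ≤ p := by
      intro x hx
      by_contra hxp
      have hu : IsUnit (algebraMap A (Localization.AtPrime p) x) :=
        (IsLocalization.AtPrime.isUnit_to_map_iff _ p x).mpr hxp
      exact hPp.ne_top (Ideal.eq_top_of_isUnit_mem _ hx hu)
    have hqne : Ideal.comap (algebraMap A (Localization.AtPrime p)) P ≠ ⊥ := by
      intro h
      apply hP
      rw [← hmc, h, Ideal.map_bot]
    have hqeq : Ideal.comap (algebraMap A (Localization.AtPrime p)) P = p := by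
      by_contra hne
      have hlt : Ideal.comap (algebraMap A (Localization.AtPrime p)) P < p :=
        lt_of_le_of_ne hqle hne
      have h0 : (⊥ : Ideal A) < Ideal.comap (algebraMap A (Localization.AtPrime p)) P :=
        bot_lt_iff_ne_bot.mpr hqne
      haveI : (⊥ : Ideal A).IsPrime := Ideal.isPrime_bot
      have h1 := Ideal.height_strict_mono_of_isPrime_of_isPrime hlt
      have h2 := Ideal.height_strict_mono_of_isPrime_of_isPrime h0
      have h3 : (1 : ℕ∞) ≤ (Ideal.comap (algebraMap A (Localization.AtPrime p)) P).height :=
        Order.one_le_iff_pos.mpr (lt_of_le_of_lt zero_le h2)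
      exact absurd (lt_of_le_of_lt h3 (lt_of_lt_of_le h1 hht)) (lt_irrefl _)
    rw [← hmc, hqeq]
    exact Localization.AtPrime.map_eq_maximalIdeal
  have hPIR : IsPrincipalIdealRing (Localization.AtPrime p) :=
    ((tfae_of_isNoetherianRing_of_isLocalRing_of_isDomain (Localization.AtPrime p)).out 3 0
      (by norm_num) (by norm_num)).mp
      (⟨inferInstance, key⟩ : IsIntegrallyClosed (Localization.AtPrime p) ∧
        ∀ P : Ideal (Localization.AtPrime p), P ≠ ⊥ → P.IsPrime →
          P = maximalIdeal (Localization.AtPrime p))
  refine { hPIR with not_a_field' := ?_ }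
  intro h
  have hmem : algebraMap A (Localization.AtPrime p) z ∈ maximalIdeal (Localization.AtPrime p) :=
    (IsLocalization.AtPrime.to_map_mem_maximal_iff _ p z).mpr hzp
  rw [h, Ideal.mem_bot] at hmem
  exact hz0 (hinj (by rw [hmem, map_zero]))

end Groth.Agent.H20
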