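import Mathlib

open TensorProduct

namespace Groth.Agent.H20

/-- `N ⊗ f` is linear for the action of an algebra acting on `N`. -/
theorem lTensor_smul_left {R S N M₁ M₂ : Type*} [CommRing R] [CommRing S] [Algebra R S]
    [AddCommGroup N] [Module S N] [Module R N] [IsScalarTower R S N]
    [AddCommGroup M₁] [Module R M₁] [AddCommGroup M₂] [Module R M₂]
    (f : M₁ →ₗ[R] M₂) (a : S) (w : N ⊗[R] M₁) :
    f.lTensor N (a • w) = a • f.lTensor N w := by
  induction w using TensorProduct.induction_on with
  | zero => simp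
  | tmul n m => simp [TensorProduct.smul_tmul']
  | add x y hx hy => simp only [smul_add, map_add, hx, hy]

/-- `lTensor` version of `TensorProduct.eq_zero_of_fg_of_subtype_eq_zero`. -/
theorem lTensor_eq_zero_of_fg_of_subtype_eq_zero {R N M : Type*} [CommRing R]
    [AddCommGroup N] [Module R N] [AddCommGroup M] [Module R M]
    {P : Submodule R M} (hP : P.FG) {t : N ⊗[R] P} (h : P.subtype.lTensor N t = 0) :
    ∃ (Q : Submodule R M) (hPQ : P ≤ Q), Q.FG ∧ (Submodule.inclusion hPQ).lTensor N t = 0 := by
  have key : ∀ {M₁ M₂ : Type _} [AddCommGroup M₁] [Module R M₁] [AddCommGroup M₂] [Module R M₂]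
      (f : M₁ →ₗ[R] M₂) (t : N ⊗[R] M₁),
      f.rTensor N (TensorProduct.comm R N M₁ t) = TensorProduct.comm R N M₂ (f.lTensor N t) := by
    intro M₁ M₂ _ _ _ _ f t
    induction t using TensorProduct.induction_on with
    | zero => simp
    | tmul n m => simp
    | add x y hx hy => simp only [map_add, hx, hy]
  have h' : P.subtype.rTensor N (TensorProduct.comm R N P t) = 0 := by
    rw [key, h, map_zero]
  obtain ⟨Q, hPQ, hQ, hz⟩ := TensorProduct.eq_zero_of_fg_of_subtype_eq_zero hP h'
  refine ⟨Q, hPQ, hQ, ?_⟩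
  rw [key] at hz
  exact (TensorProduct.comm R N Q).injective (by rw [hz, map_zero])

end Groth.Agent.H20
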