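import Mathlib

/-!
# The unramified locus commutes with base change (helper20)
-/

set_option autoImplicit false
universe u

namespace Groth.Agent.H20.UnramLocus

open CategoryTheory CategoryTheory.Limits AlgebraicGeometry TensorProduct Opposite TopologicalSpace

section ring

theorem mem_support_baseChange {A B : Type u} [CommRing A] [CommRing B] [Algebra A B]
    (M : Type u) [AddCommGroup M] [Module A M] [Module.Finite A M] (q' : PrimeSpectrum B)
    (h : PrimeSpectrum.comap (algebraMap A B) q' ∈ Module.support A M) :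
    q' ∈ Module.support B (B ⊗[A] M) := by
  rw [Module.mem_support_iff_nontrivial_residueField_tensorProduct] at h ⊢
  letI : Algebra (PrimeSpectrum.comap (algebraMap A B) q').asIdeal.ResidueField
      q'.asIdeal.ResidueField :=
    (Ideal.ResidueField.map (PrimeSpectrum.comap (algebraMap A B) q').asIdeal q'.asIdeal
      (algebraMap A B) rfl).toAlgebra
  haveI : IsScalarTower A (PrimeSpectrum.comap (algebraMap A B) q').asIdeal.ResidueField
      q'.asIdeal.ResidueField := IsScalarTower.of_algebraMap_eq (fun a => by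
    rw [IsScalarTower.algebraMap_apply A B q'.asIdeal.ResidueField]
    exact (Ideal.ResidueField.map_algebraMap (PrimeSpectrum.comap (algebraMap A B) q').asIdeal
      q'.asIdeal (algebraMap A B) rfl a).symm)
  let e1 := TensorProduct.AlgebraTensorModule.cancelBaseChange A B q'.asIdeal.ResidueField
    q'.asIdeal.ResidueField M
  let e2 := TensorProduct.AlgebraTensorModule.cancelBaseChange A
    (PrimeSpectrum.comap (algebraMap A B) q').asIdeal.ResidueField q'.asIdeal.ResidueField
    q'.asIdeal.ResidueField M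
  haveI : Nontrivial ((PrimeSpectrum.comap (algebraMap A B) q').asIdeal.ResidueField ⊗[A] M) := h
  haveI : Nontrivial (q'.asIdeal.ResidueField ⊗[(PrimeSpectrum.comap (algebraMap A B)
      q').asIdeal.ResidueField] ((PrimeSpectrum.comap (algebraMap A B)
      q').asIdeal.ResidueField ⊗[A] M)) := inferInstance
  exact (e1.trans e2.symm).toEquiv.nontrivial

theorem unramifiedLocus_descends {R S A B : Type u} [CommRing R] [CommRing S] [Algebra R S]
    [CommRing A] [CommRing B] [Algebra R A] [Algebra R B] [Algebra A B] [Algebra S B]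
    [IsScalarTower R A B] [IsScalarTower R S B] [Algebra.IsPushout R S A B]
    [Algebra.FiniteType R A]
    (q' : PrimeSpectrum B) (h : q' ∈ Algebra.unramifiedLocus S B) :
    PrimeSpectrum.comap (algebraMap A B) q' ∈ Algebra.unramifiedLocus R A := by
  rw [Algebra.unramifiedLocus_eq_compl_support] at h ⊢
  intro hq
  apply h
  have := mem_support_baseChange (Ω[A⁄R]) q' hq
  rwa [(KaehlerDifferential.tensorKaehlerEquiv R S A B).support_eq] at this

theorem unramifiedLocus_descends' {R A S B : CommRingCat.{u}} (φ : R ⟶ A) (ψ : R ⟶ S)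
    (α : A ⟶ B) (β : S ⟶ B)
    (h : IsPushout φ ψ α β) (hφ : φ.hom.FiniteType) (q' : PrimeSpectrum B)
    (hq' : q' ∈ @Algebra.unramifiedLocus S B _ _ β.hom.toAlgebra) :
    PrimeSpectrum.comap α.hom q' ∈ @Algebra.unramifiedLocus R A _ _ φ.hom.toAlgebra := by
  letI := φ.hom.toAlgebra
  letI := ψ.hom.toAlgebra
  letI := α.hom.toAlgebra
  letI := β.hom.toAlgebra
  letI : Algebra R B := (α.hom.comp φ.hom).toAlgebra
  haveI : IsScalarTower R A B := IsScalarTower.of_algebraMap_eq' rfl
  haveI : IsScalarTower R S B := IsScalarTower.of_algebraMap_eq' (by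
    have := congrArg CommRingCat.Hom.hom h.w
    exact this)
  haveI : Algebra.IsPushout R A S B := CommRingCat.isPushout_iff_isPushout.mp h
  haveI : Algebra.IsPushout R S A B := Algebra.IsPushout.symm inferInstance
  haveI : Algebra.FiniteType R A := hφ
  exact unramifiedLocus_descends q' hq'

theorem formallyUnramified_comp_away_iff {A B C : Type u} [CommRing A] [CommRing B] [CommRing C]
    (φ : A →+* B) (ρ : B →+* C) (b : B)
    (hloc : @IsLocalization.Away B _ b C _ ρ.toAlgebra) :
    (ρ.comp φ).FormallyUnramified ↔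
      (↑(PrimeSpectrum.basicOpen b) : Set (PrimeSpectrum B)) ⊆
        @Algebra.unramifiedLocus A B _ _ φ.toAlgebra := by
  letI := φ.toAlgebra
  letI := ρ.toAlgebra
  letI : Algebra A C := (ρ.comp φ).toAlgebra
  haveI : IsScalarTower A B C := IsScalarTower.of_algebraMap_eq' rfl
  haveI : IsLocalization.Away b C := hloc
  rw [Algebra.basicOpen_subset_unramifiedLocus_iff]
  let e : Localization.Away b ≃ₐ[B] C := IsLocalization.algEquiv (Submonoid.powers b) _ _
  let e' : Localization.Away b ≃ₐ[A] C := e.restrictScalars A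
  constructor
  · intro h
    haveI : Algebra.FormallyUnramified A C := h
    exact Algebra.FormallyUnramified.of_equiv e'.symm
  · intro h
    haveI := h
    exact (Algebra.FormallyUnramified.of_equiv e' : Algebra.FormallyUnramified A C)

end ring

section schemes

theorem fu_ι_comp_iff {X S : Scheme.{u}} (f : X ⟶ S) {W : S.Opens} (hW : IsAffineOpen W)
    {D : X.Opens} (hD : IsAffineOpen D) (e : D ≤ f ⁻¹ᵁ W) :
    FormallyUnramified (D.ι ≫ f) ↔ (f.appLE W D e).hom.FormallyUnramified := by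
  haveI : IsAffine D.toScheme := hD
  haveI : IsAffine W.toScheme := hW
  have h1 : FormallyUnramified (D.ι ≫ f) ↔ FormallyUnramified (f.resLE W D e) := by
    rw [← Scheme.Hom.resLE_comp_ι f e]
    exact ⟨fun _ => FormallyUnramified.of_comp _ W.ι,
      fun h => MorphismProperty.comp_mem _ _ _ h inferInstance⟩
  rw [h1, HasRingHomProperty.iff_of_isAffine (P := @FormallyUnramified)]
  exact RingHom.FormallyUnramified.respectsIso.arrow_mk_iso_iff (arrowResLEAppIso f W D e)

theorem mem_unramifiedLocus_of_nbhd {X S : Scheme.{u}} (f : X ⟶ S) {W : S.Opens}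
    (hW : IsAffineOpen W) {V : X.Opens} (hV : IsAffineOpen V) (e : V ≤ f ⁻¹ᵁ W)
    (𝔮 : PrimeSpectrum Γ(X, V)) (U : X.Opens) (hxU : hV.fromSpec 𝔮 ∈ U)
    (hU : FormallyUnramified (U.ι ≫ f)) :
    𝔮 ∈ @Algebra.unramifiedLocus Γ(S, W) Γ(X, V) _ _ (f.appLE W V e).hom.toAlgebra := by
  have hxV : hV.fromSpec 𝔮 ∈ V := by
    have := Set.mem_range_self (f := hV.fromSpec) 𝔮
    rwa [hV.range_fromSpec] at this
  obtain ⟨b, hbU, hxb⟩ := hV.exists_basicOpen_le (⟨hV.fromSpec 𝔮, hxU⟩ : U) hxV
  have hD : IsAffineOpen (X.basicOpen b) := hV.basicOpen b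
  have hDV : X.basicOpen b ≤ V := X.basicOpen_le b
  have hfuD : FormallyUnramified ((X.basicOpen b).ι ≫ f) := by
    rw [← X.homOfLE_ι hbU, Category.assoc]
    exact MorphismProperty.comp_mem _ _ _ inferInstance hU
  have h1 := (fu_ι_comp_iff f hW hD (hDV.trans e)).mp hfuD
  have h2 : (f.appLE W (X.basicOpen b) (hDV.trans e)).hom =
      (X.presheaf.map (homOfLE hDV).op).hom.comp (f.appLE W V e).hom := by
    rw [← f.appLE_map e (homOfLE hDV).op]; rfl
  rw [h2] at h1
  have h3 := (formallyUnramified_comp_away_iff (f.appLE W V e).hom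
    (X.presheaf.map (homOfLE hDV).op).hom b (hV.isLocalization_basicOpen b)).mp h1
  apply h3
  have : 𝔮 ∈ hV.fromSpec ⁻¹ᵁ X.basicOpen b := hxb
  rw [hV.fromSpec_preimage_basicOpen] at this
  exact this

theorem exists_nbhd_of_mem_unramifiedLocus {X S : Scheme.{u}} (f : X ⟶ S) {W : S.Opens}
    (hW : IsAffineOpen W) {V : X.Opens} (hV : IsAffineOpen V) (e : V ≤ f ⁻¹ᵁ W)
    (hft : (f.appLE W V e).hom.FiniteType) (𝔮 : PrimeSpectrum Γ(X, V))
    (h𝔮 : 𝔮 ∈ @Algebra.unramifiedLocus Γ(S, W) Γ(X, V) _ _ (f.appLE W V e).hom.toAlgebra) :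
    ∃ U : X.Opens, hV.fromSpec 𝔮 ∈ U ∧ FormallyUnramified (U.ι ≫ f) := by
  letI := (f.appLE W V e).hom.toAlgebra
  haveI : Algebra.FiniteType Γ(S, W) Γ(X, V) := hft
  haveI : Algebra.IsUnramifiedAt Γ(S, W) 𝔮.asIdeal := h𝔮
  obtain ⟨b, hb, hfu⟩ :=
    Algebra.exists_formallyUnramified_of_isUnramifiedAt (R := Γ(S, W)) 𝔮.asIdeal
  have hsub := (Algebra.basicOpen_subset_unramifiedLocus_iff (R := Γ(S, W)) (f := b)).mpr hfu
  have hDV : X.basicOpen b ≤ V := X.basicOpen_le b
  have h1 := (formallyUnramified_comp_away_iff (f.appLE W V e).hom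
    (X.presheaf.map (homOfLE hDV).op).hom b (hV.isLocalization_basicOpen b)).mpr hsub
  have h2 : (f.appLE W (X.basicOpen b) (hDV.trans e)).hom =
      (X.presheaf.map (homOfLE hDV).op).hom.comp (f.appLE W V e).hom := by
    rw [← f.appLE_map e (homOfLE hDV).op]; rfl
  rw [← h2] at h1
  refine ⟨X.basicOpen b, ?_, (fu_ι_comp_iff f hW (hV.basicOpen b) (hDV.trans e)).mpr h1⟩
  have : 𝔮 ∈ (PrimeSpectrum.basicOpen b) := hb
  rw [← hV.fromSpec_preimage_basicOpen] at this
  exact this

theorem fu_nbhd_of_pullback {X S S' : Scheme.{u}} (f : X ⟶ S) [LocallyOfFiniteType f]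
    (g : S' ⟶ S) (x' : ↑(pullback f g))
    (h : ∃ U' : (pullback f g).Opens, x' ∈ U' ∧
      FormallyUnramified (U'.ι ≫ pullback.snd f g)) :
    ∃ U : X.Opens, (pullback.fst f g).base x' ∈ U ∧ FormallyUnramified (U.ι ≫ f) := by
  obtain ⟨U', hxU', hU'⟩ := h
  have hcond : f ((pullback.fst f g) x') = g ((pullback.snd f g) x') := by
    rw [← Scheme.Hom.comp_apply, ← Scheme.Hom.comp_apply, pullback.condition]
  obtain ⟨W, hW, hsW, -⟩ := Opens.isBasis_iff_nbhd.mp S.isBasis_affineOpens
    (Opens.mem_top (g ((pullback.snd f g) x')))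
  obtain ⟨W', hW', hsW', eW'⟩ := Opens.isBasis_iff_nbhd.mp S'.isBasis_affineOpens
    (show (pullback.snd f g) x' ∈ g ⁻¹ᵁ W from hsW)
  obtain ⟨V, hV, hxV, eV⟩ := Opens.isBasis_iff_nbhd.mp X.isBasis_affineOpens
    (show (pullback.fst f g) x' ∈ f ⁻¹ᵁ W from by
      show f ((pullback.fst f g) x') ∈ W
      rw [hcond]; exact hsW)
  let V' : (pullback f g).Opens := (pullback.fst f g) ⁻¹ᵁ V ⊓ (pullback.snd f g) ⁻¹ᵁ W'
  have H : IsPullback (pullback.fst f g) (pullback.snd f g) f g := IsPullback.of_hasPullback f g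
  have hx'V' : x' ∈ V' := ⟨hxV, hsW'⟩
  have hV' : IsAffineOpen V' := by
    have : IsAffine _ := hW
    have : IsAffine _ := hW'
    have : IsAffine _ := hV
    exact .of_isIso (Scheme.Hom.isPullback_resLE H eW' eV rfl).isoPullback.hom
  have hpo : IsPushout (f.appLE W V eV) (g.appLE W W' eW')
      ((pullback.fst f g).appLE V V' inf_le_left)
      ((pullback.snd f g).appLE W' V' inf_le_right) := by
    haveI := isIso_pushoutSection_of_isAffineOpen H eW' eV (rfl : V' = _) hW hW' hV
    exact (isIso_pushoutSection_iff H eW' eV rfl).mp this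
  obtain ⟨𝔮', h𝔮'⟩ : ∃ 𝔮', hV'.fromSpec 𝔮' = x' := by
    have : x' ∈ Set.range hV'.fromSpec := by rw [hV'.range_fromSpec]; exact hx'V'
    exact this
  have h1 := mem_unramifiedLocus_of_nbhd (pullback.snd f g) hW' hV' inf_le_right 𝔮' U'
    (h𝔮' ▸ hxU') hU'
  have h2 := unramifiedLocus_descends' (f.appLE W V eV) (g.appLE W W' eW') _ _ hpo
    (f.finiteType_appLE hW hV eV) 𝔮' h1
  obtain ⟨U, hU1, hU2⟩ := exists_nbhd_of_mem_unramifiedLocus f hW hV eV
    (f.finiteType_appLE hW hV eV) _ h2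
  refine ⟨U, ?_, hU2⟩
  have hnat := IsAffineOpen.SpecMap_appLE_fromSpec (pullback.fst f g) hV hV' inf_le_left
  have : hV.fromSpec (PrimeSpectrum.comap ((pullback.fst f g).appLE V V' inf_le_left).hom 𝔮') =
      (pullback.fst f g) x' := by
    rw [← h𝔮', ← Scheme.Hom.comp_apply, ← hnat, Scheme.Hom.comp_apply]
    rfl
  rw [← this]
  exact hU1

theorem fu_nbhd_pullback_of {X S S' : Scheme.{u}} (f : X ⟶ S) (g : S' ⟶ S)
    (x' : ↑(pullback f g))
    (h : ∃ U : X.Opens, (pullback.fst f g).base x' ∈ U ∧ FormallyUnramified (U.ι ≫ f)) :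
    ∃ U' : (pullback f g).Opens, x' ∈ U' ∧
      FormallyUnramified (U'.ι ≫ pullback.snd f g) := by
  obtain ⟨U, hxU, hU⟩ := h
  refine ⟨(pullback.fst f g) ⁻¹ᵁ U, hxU, ?_⟩
  have h1 : IsPullback ((pullback.fst f g) ∣_ U) ((pullback.fst f g) ⁻¹ᵁ U).ι U.ι
      (pullback.fst f g) := isPullback_morphismRestrict _ _
  have h2 : IsPullback (pullback.fst f g) (pullback.snd f g) f g :=
    IsPullback.of_hasPullback f g
  have h3 := h1.paste_vert h2
  exact MorphismProperty.of_isPullback (P := @FormallyUnramified) h3 hU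

end schemes

end Groth.Agent.H20.UnramLocus
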